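import Cfsg.Agent.Lib.ChevCol.Basic
import Cfsg.Agent.Lib.Chev.TwF4B

/-!
# Identities in `F₄` in characteristic two
-/

namespace Cfsg.Agent.Lib.Chev.TwoGen.F4

open Cfsg.Lie Matrix
open Cfsg.Agent.Lib.Chev.TwF4 (hF)
open Cfsg.Agent.Lib.Chev.Col

variable {K : Type*} [Field K]

/-- the order of the collector -/
def keyF4 (r : ℕ) : ℕ := ([1500, 101, 2, 1503, 1404, 1305, 1506, 107, 8, 1409, 210, 1311, 112, 1313, 1214, 215, 116, 317, 1518, 319, 320, 1321, 322, 1223, 424, 1125, 526, 1127, 1128, 729, 1130, 931, 1032, 433, 534, 935, 536, 1037, 638, 839, 940, 741, 542, 643, 744, 845, 946, 747] : List ℕ).getD r 0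

theorem colF {w w' : PW} (h : eqW 2 (run chevF4 2 keyF4 400 w) (run chevF4 2 keyF4 400 w') = true)
    (h2 : ((2 : ℕ) : K) = 0) (v : ℕ → K) : evW hF v w = evW hF v w' := by
  rw [← evW_run hF v h2 (key := keyF4) 400 w, ← evW_run hF v h2 (key := keyF4) 400 w']
  exact evW_eqW hF v h2 h

theorem id_D (h2 : ((2 : ℕ) : K) = 0) (S s T t : K) :
    hF.c.xG 44 (S) * (hF.c.xG 47 (s) * (hF.c.xG 8 (T) * (hF.c.xG 2 (t) * (hF.c.xG 47 (s) * (hF.c.xG 44 (S) * (hF.c.xG 2 (t) * (hF.c.xG 8 (T)))))))) =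
      hF.c.xG 7 (S * (T * t)) * (hF.c.xG 1 (s * (T * (T * t))) * (hF.c.xG 10 (s * (T * t)) * (hF.c.xG 15 (S * (S * (T * (T * t)))) * (hF.c.xG 20 (S * t) * (hF.c.xG 22 (s * (T * T)) * (hF.c.xG 19 (S * (s * (T * (T * t)))) * (hF.c.xG 34 (S * T) * (hF.c.xG 26 (s * t) * (hF.c.xG 36 (S * (s * (T * t))) * (hF.c.xG 38 (s * T) * (hF.c.xG 43 (S * (S * t))))))))))))) := by
  have h := colF (K := K) (w := [(44,[(1,[0])]),(47,[(1,[1])]),(8,[(1,[2])]),(2,[(1,[3])]),(47,[(1,[1])]),(44,[(1,[0])]),(2,[(1,[3])]),(8,[(1,[2])])]) (w' := [(7,[(1,[0, 2, 3])]),(1,[(1,[1, 2, 2, 3])]),(10,[(1,[1, 2, 3])]),(15,[(1,[0, 0, 2, 2, 3])]),(20,[(1,[0, 3])]),(22,[(1,[1, 2, 2])]),(19,[(1,[0, 1, 2, 2, 3])]),(34,[(1,[0, 2])]),(26,[(1,[1, 3])]),(36,[(1,[0, 1, 2, 3])]),(38,[(1,[1, 2])]),(43,[(1,[0, 0, 3])])]) (by decide +kernel) h2 (fun i => [S,s,T,t].getD i 0)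
  simpa [evW, ev, evM, Checks.wordG_cons, Checks.wordG_nil] using h

theorem id_yA (h2 : ((2 : ℕ) : K) = 0) (T t : K) :
    hF.c.xG 19 (1) * (hF.c.xG 17 (1) * (hF.c.xG 39 (T) * (hF.c.xG 45 (t) * (hF.c.xG 17 (1) * (hF.c.xG 19 (1)))))) =
      hF.c.xG 36 (T) * (hF.c.xG 42 (t) * (hF.c.xG 39 (T) * (hF.c.xG 45 (t)))) := by
  have h := colF (K := K) (w := [(19,[(1,[])]),(17,[(1,[])]),(39,[(1,[0])]),(45,[(1,[1])]),(17,[(1,[])]),(19,[(1,[])])]) (w' := [(36,[(1,[0])]),(42,[(1,[1])]),(39,[(1,[0])]),(45,[(1,[1])])]) (by decide +kernel) h2 (fun i => [T,t].getD i 0)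
  simpa [evW, ev, evM, Checks.wordG_cons, Checks.wordG_nil] using h

theorem id_yB (h2 : ((2 : ℕ) : K) = 0) (T t : K) :
    hF.c.xG 19 (1) * (hF.c.xG 17 (1) * (hF.c.xG 10 (T) * (hF.c.xG 15 (t) * (hF.c.xG 17 (1) * (hF.c.xG 19 (1)))))) =
      hF.c.xG 10 (T) * (hF.c.xG 15 (t)) := by
  have h := colF (K := K) (w := [(19,[(1,[])]),(17,[(1,[])]),(10,[(1,[0])]),(15,[(1,[1])]),(17,[(1,[])]),(19,[(1,[])])]) (w' := [(10,[(1,[0])]),(15,[(1,[1])])]) (by decide +kernel) h2 (fun i => [T,t].getD i 0)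
  simpa [evW, ev, evM, Checks.wordG_cons, Checks.wordG_nil] using h

theorem id_yC (h2 : ((2 : ℕ) : K) = 0) (T t : K) :
    hF.c.xG 19 (1) * (hF.c.xG 17 (1) * (hF.c.xG 33 (T) * (hF.c.xG 24 (t) * (hF.c.xG 17 (1) * (hF.c.xG 19 (1)))))) =
      hF.c.xG 33 (T) * (hF.c.xG 24 (t)) := by
  have h := colF (K := K) (w := [(19,[(1,[])]),(17,[(1,[])]),(33,[(1,[0])]),(24,[(1,[1])]),(17,[(1,[])]),(19,[(1,[])])]) (w' := [(33,[(1,[0])]),(24,[(1,[1])])]) (by decide +kernel) h2 (fun i => [T,t].getD i 0)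
  simpa [evW, ev, evM, Checks.wordG_cons, Checks.wordG_nil] using h

theorem id_div (h2 : ((2 : ℕ) : K) = 0) (A B C D : K) :
    hF.c.xG 20 (A) * (hF.c.xG 22 (B) * (hF.c.xG 19 (A * B) * (hF.c.xG 19 (C * D) * (hF.c.xG 22 (D) * (hF.c.xG 20 (C)))))) =
      hF.c.xG 20 (A + C) * (hF.c.xG 22 (B + D) * (hF.c.xG 19 (A * B + C * B) * (hF.c.xG 17 (B * (C * C) + D * (C * C))))) := by
  have h := colF (K := K) (w := [(20,[(1,[0])]),(22,[(1,[1])]),(19,[(1,[0, 1])]),(19,[(1,[2, 3])]),(22,[(1,[3])]),(20,[(1,[2])])]) (w' := [(20,[(1,[0]),(1,[2])]),(22,[(1,[1]),(1,[3])]),(19,[(1,[0, 1]),(1,[2, 1])]),(17,[(1,[1, 2, 2]),(1,[3, 2, 2])])]) (by decide +kernel) h2 (fun i => [A,B,C,D].getD i 0)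
  simpa [evW, ev, evM, Checks.wordG_cons, Checks.wordG_nil] using h

theorem id_sq (h2 : ((2 : ℕ) : K) = 0) (T t : K) :
    hF.c.xG 33 (T) * (hF.c.xG 24 (t) * (hF.c.xG 33 (T) * (hF.c.xG 24 (t)))) =
      1 := by
  have h := colF (K := K) (w := [(33,[(1,[0])]),(24,[(1,[1])]),(33,[(1,[0])]),(24,[(1,[1])])]) (w' := []) (by decide +kernel) h2 (fun i => [T,t].getD i 0)
  simpa [evW, ev, evM, Checks.wordG_cons, Checks.wordG_nil] using h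

theorem id_cen (h2 : ((2 : ℕ) : K) = 0) (A B a b c d : K) :
    hF.c.xG 20 (A) * (hF.c.xG 22 (B) * (hF.c.xG 19 (a) * (hF.c.xG 17 (b)))) =
      hF.c.xG 20 (A) * (hF.c.xG 22 (B) * (hF.c.xG 19 (a + c) * (hF.c.xG 17 (b + d) * (hF.c.xG 19 (c) * (hF.c.xG 17 (d)))))) := by
  have h := colF (K := K) (w := [(20,[(1,[0])]),(22,[(1,[1])]),(19,[(1,[2])]),(17,[(1,[3])])]) (w' := [(20,[(1,[0])]),(22,[(1,[1])]),(19,[(1,[2]),(1,[4])]),(17,[(1,[3]),(1,[5])]),(19,[(1,[4])]),(17,[(1,[5])])]) (by decide +kernel) h2 (fun i => [A,B,a,b,c,d].getD i 0)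
  simpa [evW, ev, evM, Checks.wordG_cons, Checks.wordG_nil] using h

end Cfsg.Agent.Lib.Chev.TwoGen.F4
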